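import Groth.Agent.TorsFpqcLib.Basic
import Groth.Agent.QuotTransLib.Stack
import Groth.Agent.QuotFpqcLib.Cover
import Groth.Agent.S12793
import Groth.Agent.QuotStLib.Torsor

/-!
# Torsors for the fpqc topology under a flat group locally of finite presentation
-/

set_option autoImplicit false
set_option linter.all false
set_option backward.isDefEq.respectTransparency false
set_option backward.isDefEq.respectTransparency.types false

universe u

open CategoryTheory CategoryTheory.Limits AlgebraicGeometry MonoidalCategory CartesianMonoidalCategory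

namespace BGFpqcLib

variable {S : Scheme.{u}} {G : Over S} [GrpObj G] {X : Over S} {aX : AlgGrp.Action G X}

/-- A property of the group passes to fpqc-locally trivial torsors over a base. -/
theorem prop_π (Q : MorphismProperty Scheme.{u}) [IsZariskiLocalAtTarget Q] [Q.IsStableUnderBaseChange]
    [Q.DescendsAlong (@Surjective ⊓ @Flat ⊓ @QuasiCompact)] {T P : Over S} (a : AlgGrp.Action G P) (π : P ⟶ T)
    (cart : IsPullback a.act (snd G P) π π)
    (loc : NonAbH1.IsLocallyTrivialFor Scheme.fpqcPrecoverage (Over.mk π.left : Over T.left))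
    (hG : Q G.hom) : Q π.left := by
  refine Groth.Agent.TorsFpqc.of_local Q π.left (𝟙 T.left) fun U hU => ?_
  obtain ⟨W, c, hcf, hcs, hcq, ⟨p⟩⟩ := Groth.Agent.TorsFpqc.exists_local_section loc hU
  refine ⟨W, c, hcf, hcs, hcq, ?_⟩
  let V : Over S := Over.mk ((c ≫ U.ι) ≫ T.hom)
  let v : V ⟶ T := Over.homMk (c ≫ U.ι)
  have hp : p.left ≫ π.left = c ≫ U.ι := Over.w p
  let σ : V ⟶ P := Over.homMk p.left (by
    show p.left ≫ P.hom = (c ≫ U.ι) ≫ T.hom
    exact (((congrArg (· ≫ T.hom) hp).symm.trans (Category.assoc _ _ _)).trans (congrArg (p.left ≫ ·) (Over.w π))).symm)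
  have hσ : σ ≫ π = v := Over.OverMorphism.ext hp
  have sq : IsPullback ((G ◁ σ) ≫ a.act) (snd G V) π v :=
    hσ ▸ (AlgSt.isPullback_whiskerLeft σ).paste_horiz cart
  have sq1 : IsPullback ((G ◁ σ) ≫ a.act).left (snd G V).left π.left (c ≫ U.ι) := sq.map (Over.forget S)
  have h1 : Q (snd G V).left := Q.of_isPullback (QuotStLib.isPullback_snd_left V) hG
  have sq2 : IsPullback (pullback.fst π.left (pullback.fst (𝟙 T.left) (c ≫ U.ι)))
      (pullback.snd π.left (pullback.fst (𝟙 T.left) (c ≫ U.ι)) ≫ pullback.snd (𝟙 T.left) (c ≫ U.ι))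
      π.left (c ≫ U.ι) := by
    have := (IsPullback.of_hasPullback π.left (pullback.fst (𝟙 T.left) (c ≫ U.ι))).paste_vert
      (IsPullback.of_hasPullback (𝟙 T.left) (c ≫ U.ι))
    rwa [Category.comp_id] at this
  have e := sq2.isoIsPullback_hom_snd _ _ sq1
  haveI : IsIso (pullback.snd (𝟙 T.left) (c ≫ U.ι)) := inferInstance
  rw [← Q.cancel_right_of_respectsIso _ (pullback.snd (𝟙 T.left) (c ≫ U.ι)), ← e, Q.cancel_left_of_respectsIso]
  exact h1

/-- A locally trivial morphism is surjective. -/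
theorem surjective_π {T P : Over S} (π : P ⟶ T)
    (loc : NonAbH1.IsLocallyTrivialFor Scheme.fpqcPrecoverage (Over.mk π.left : Over T.left)) :
    Surjective π.left := by
  refine ⟨fun t => ?_⟩
  obtain ⟨U, hU, htU, -⟩ := exists_isAffineOpen_mem_and_subset (X := T.left) (x := t) (U := ⊤) trivial
  obtain ⟨W, c, -, hcs, -, ⟨p⟩⟩ := Groth.Agent.TorsFpqc.exists_local_section loc hU
  obtain ⟨w, hw⟩ := hcs.surj ⟨t, htU⟩
  have hp : p.left ≫ π.left = c ≫ U.ι := Over.w p
  refine ⟨p.left w, ?_⟩
  refine (congrArg (fun k : W ⟶ T.left => k w) hp).trans ?_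
  show U.ι (c w) = t
  rw [hw]
  rfl

/-- fpqc torsors under a flat group locally of finite presentation are fppf torsors. -/
theorem loc_fppf [Flat G.hom] [LocallyOfFinitePresentation G.hom] {T P : Over S} (a : AlgGrp.Action G P) (π : P ⟶ T)
    (cart : IsPullback a.act (snd G P) π π)
    (loc : NonAbH1.IsLocallyTrivialFor Scheme.fpqcPrecoverage (Over.mk π.left : Over T.left)) :
    NonAbH1.IsLocallyTrivialFor Scheme.fppfPrecoverage (Over.mk π.left : Over T.left) := by
  haveI : Flat π.left := prop_π @Flat a π cart loc ‹_›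
  haveI : LocallyOfFinitePresentation π.left := prop_π @LocallyOfFinitePresentation a π cart loc ‹_›
  haveI := surjective_π π loc
  refine ⟨Presieve.singleton π.left, π.left.singleton_mem_fppfPrecoverage, ?_⟩
  rintro T' f ⟨⟩
  exact ⟨𝟙 _, Category.id_comp _⟩

/-- fppf coverings are fpqc coverings. -/
theorem loc_fpqc {T P : Over S} (π : P ⟶ T)
    (loc : NonAbH1.IsLocallyTrivialFor Scheme.fppfPrecoverage (Over.mk π.left : Over T.left)) :
    NonAbH1.IsLocallyTrivialFor Scheme.fpqcPrecoverage (Over.mk π.left : Over T.left) := by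
  obtain ⟨R, hR, h⟩ := loc
  exact ⟨R, Scheme.fppfPrecoverage_le_fpqcPrecoverage _ hR, h⟩

variable (aX)

local notation "Fl" => AlgSt.QuotSt Scheme.fppfPrecoverage G aX
local notation "Fq" => AlgSt.QuotSt Scheme.fpqcPrecoverage G aX

/-- The comparison functor. -/
def FQ : Fl ⥤ᵇ Fq where
  toFunctor :=
    { obj := fun A => ⟨A.base, A.P, A.act, A.π, A.cart, loc_fpqc A.π A.loc, A.φ, A.eqv⟩
      map := fun {A B} f => ⟨f.base, f.top, f.eqv, f.cart, f.wφ⟩
      map_id := fun A => rfl
      map_comp := fun f g => rfl }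
  w := rfl

instance : (FQ aX).toFunctor.Faithful where
  map_injective {A B} f g h :=
    AlgSt.QuotObj.hom_ext (congrArg (fun k : (FQ aX).obj A ⟶ (FQ aX).obj B => k.base) h)
      (congrArg (fun k : (FQ aX).obj A ⟶ (FQ aX).obj B => k.top) h)

instance : (FQ aX).toFunctor.Full where
  map_surjective {A B} g := ⟨⟨g.base, g.top, g.eqv, g.cart, g.wφ⟩, rfl⟩

theorem isEquivOver_FQ [Flat G.hom] [LocallyOfFinitePresentation G.hom] : FibCat.IsEquivOver (FQ aX) := by
  refine FibLib.isEquivOver_of_vertEssSurj _ fun A => ?_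
  refine ⟨⟨A.base, A.P, A.act, A.π, A.cart, loc_fppf A.act A.π A.cart A.loc, A.φ, A.eqv⟩, Iso.refl A, ?_⟩
  exact IsHomLift.id (p := AlgSt.QuotObj.forget Scheme.fpqcPrecoverage G aX) rfl

end BGFpqcLib
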