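import Groth.Agent.BGFpqcLib.Points
import Groth.Agent.DescLib.IndQAMain
import Groth.Agent.RichLib.IndQuasiAffine

/-!
# Effective descent of the total spaces of a descent datum of torsors under an affine group
-/

set_option autoImplicit false
set_option linter.all false
set_option backward.isDefEq.respectTransparency false
set_option backward.isDefEq.respectTransparency.types false
set_option maxHeartbeats 400000

universe u

open CategoryTheory CategoryTheory.Limits AlgebraicGeometry MonoidalCategory CartesianMonoidalCategory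

namespace BGFpqcLib

variable {S : Scheme.{u}} {G : Over S} [GrpObj G] {X : Over S} {aX : AlgGrp.Action G X} {T : Over S} {R : Sieve T}
  {K : Stk.sieveCat R ⥤ᵇ AlgSt.QuotSt Scheme.fppfPrecoverage G aX}

theorem affine_proj [IsAffineHom G.hom] (a : (Stk.sieveCat R).obj) : IsAffineHom (proj K a).left := by
  haveI : IsAffineHom (K.obj a).π.left :=
    prop_π @IsAffineHom (K.obj a).act (K.obj a).π (K.obj a).cart (loc_fpqc _ (K.obj a).loc) ‹_›
  haveI : IsIso (eqToHom (baseEq K a)).left :=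
    inferInstanceAs (IsIso ((Over.forget S).map (eqToHom (baseEq K a))))
  rw [proj, Over.comp_left]
  infer_instance

section fam

variable {ι : Type u} {V : ι → Over S} (g : ∀ i, V i ⟶ T) (hg : ∀ i, R (g i))

theorem pt_hom {T' : Scheme.{u}} {i : ι} {x₀ : T' ⟶ (V i).left}
    (v : Desc.Lifts (Over.mk (proj K (ob (g i) (hg i))).left : Over (V i).left) x₀) :
    v.1 ≫ (P K (ob (g i) (hg i))).hom = x₀ ≫ (V i).hom :=
  (congrArg (v.1 ≫ ·) (Over.w (proj K (ob (g i) (hg i)))).symm).trans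
    ((Category.assoc _ _ _).symm.trans (congrArg (· ≫ (V i).hom) v.2))

/-- The gluing map on points. -/
noncomputable def φf {T' : Scheme.{u}} {i j : ι} (x₀ : T' ⟶ (V i).left) (x₁ : T' ⟶ (V j).left)
    (h : x₀ ≫ (g i).left = x₁ ≫ (g j).left)
    (v : Desc.Lifts (Over.mk (proj K (ob (g i) (hg i))).left : Over (V i).left) x₀) :
    Desc.Lifts (Over.mk (proj K (ob (g j) (hg j))).left : Over (V j).left) x₁ :=
  have hv : v.1 ≫ (proj K (ob (g i) (hg i))).left = x₀ := v.2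
  let W : Over S := Over.mk (x₀ ≫ (V i).hom)
  let y : W ⟶ P K (ob (g i) (hg i)) := Over.homMk v.1 (by
    exact pt_hom g hg v)
  let z : W ⟶ V j := Over.homMk x₁ (by
    show x₁ ≫ (V j).hom = x₀ ≫ (V i).hom
    rw [← Over.w (g j), ← Category.assoc, ← h, Category.assoc, Over.w (g i)])
  have hyz : y ≫ proj K (ob (g i) (hg i)) ≫ g i = z ≫ g j := Over.OverMorphism.ext
    ((Category.assoc v.1 _ _).symm.trans ((congrArg (· ≫ (g i).left) hv).trans h))
  ⟨(tr y z (b := ob (g j) (hg j)) hyz).left, congrArg CommaMorphism.left (tr_proj y z (b := ob (g j) (hg j)) hyz)⟩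

theorem φf_val {T' : Scheme.{u}} {i j : ι} {x₀ : T' ⟶ (V i).left} {x₁ : T' ⟶ (V j).left}
    (h : x₀ ≫ (g i).left = x₁ ≫ (g j).left)
    (v : Desc.Lifts (Over.mk (proj K (ob (g i) (hg i))).left : Over (V i).left) x₀)
    {W : Over S} (g₀ : T' ⟶ W.left) (y : W ⟶ P K (ob (g i) (hg i))) (z : W ⟶ V j)
    (hyz : y ≫ proj K (ob (g i) (hg i)) ≫ g i = z ≫ g j) (hv : v.1 = g₀ ≫ y.left) (hx : x₁ = g₀ ≫ z.left) :
    (φf g hg x₀ x₁ h v).1 = g₀ ≫ (tr y z (b := ob (g j) (hg j)) hyz).left := by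
  have hv' : v.1 ≫ (proj K (ob (g i) (hg i))).left = x₀ := v.2
  let k : Over.mk (x₀ ≫ (V i).hom) ⟶ W := Over.homMk g₀ (by
    show g₀ ≫ W.hom = x₀ ≫ (V i).hom
    refine ((congrArg (g₀ ≫ ·) (Over.w y)).symm.trans ((Category.assoc _ _ _).symm.trans ?_))
    exact (congrArg (· ≫ (P K (ob (g i) (hg i))).hom) hv).symm.trans (pt_hom g hg v))
  have := congrArg CommaMorphism.left (tr_natural y z (b := ob (g j) (hg j)) hyz k
    (by simp only [Category.assoc]; exact congrArg (k ≫ ·) hyz))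
  refine Eq.trans ?_ this
  subst hx
  simp only [φf]
  congr 1
  congr 1
  exact Over.OverMorphism.ext hv

theorem exists_pt {T' : Scheme.{u}} {i j : ι} (x₀ : T' ⟶ (V i).left) (x₁ : T' ⟶ (V j).left)
    (h : x₀ ≫ (g i).left = x₁ ≫ (g j).left)
    (v : Desc.Lifts (Over.mk (proj K (ob (g i) (hg i))).left : Over (V i).left) x₀) :
    ∃ (W : Over S) (g₀ : T' ⟶ W.left) (y : W ⟶ P K (ob (g i) (hg i))) (z : W ⟶ V j)
      (hyz : y ≫ proj K (ob (g i) (hg i)) ≫ g i = z ≫ g j), v.1 = g₀ ≫ y.left ∧ x₁ = g₀ ≫ z.left := by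
  have hv : v.1 ≫ (proj K (ob (g i) (hg i))).left = x₀ := v.2
  refine ⟨Over.mk (x₀ ≫ (V i).hom), 𝟙 _, Over.homMk v.1 ?_, Over.homMk x₁ ?_, ?_,
    (Category.id_comp _).symm, (Category.id_comp _).symm⟩
  · exact pt_hom g hg v
  · show x₁ ≫ (V j).hom = x₀ ≫ (V i).hom
    rw [← Over.w (g j), ← Category.assoc, ← h, Category.assoc, Over.w (g i)]
  · exact Over.OverMorphism.ext ((Category.assoc v.1 _ _).symm.trans ((congrArg (· ≫ (g i).left) hv).trans h))

theorem φf_self {T' : Scheme.{u}} {i : ι} (x : T' ⟶ (V i).left)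
    (v : Desc.Lifts (Over.mk (proj K (ob (g i) (hg i))).left : Over (V i).left) x) :
    φf g hg x x rfl v = v := by
  have hv : v.1 ≫ (proj K (ob (g i) (hg i))).left = x := v.2
  let W : Over S := Over.mk (v.1 ≫ (P K (ob (g i) (hg i))).hom)
  let y : W ⟶ P K (ob (g i) (hg i)) := Over.homMk v.1
  refine Subtype.ext ((φf_val g hg rfl v (W := W) (𝟙 _) y (y ≫ proj K (ob (g i) (hg i))) (Category.assoc _ _ _).symm
    (Category.id_comp _).symm (hv.symm.trans (Category.id_comp _).symm)).trans ?_)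
  rw [Category.id_comp, tr_self y (y ≫ proj K (ob (g i) (hg i))) rfl]
  rfl

theorem φf_comp {T' : Scheme.{u}} {i j k : ι} (x₀ : T' ⟶ (V i).left) (x₁ : T' ⟶ (V j).left) (x₂ : T' ⟶ (V k).left)
    (h₀₁ : x₀ ≫ (g i).left = x₁ ≫ (g j).left) (h₁₂ : x₁ ≫ (g j).left = x₂ ≫ (g k).left)
    (v : Desc.Lifts (Over.mk (proj K (ob (g i) (hg i))).left : Over (V i).left) x₀) :
    φf g hg x₁ x₂ h₁₂ (φf g hg x₀ x₁ h₀₁ v) = φf g hg x₀ x₂ (h₀₁.trans h₁₂) v := by
  have hv : v.1 ≫ (proj K (ob (g i) (hg i))).left = x₀ := v.2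
  let W : Over S := Over.mk (v.1 ≫ (P K (ob (g i) (hg i))).hom)
  let y : W ⟶ P K (ob (g i) (hg i)) := Over.homMk v.1
  have hwi : v.1 ≫ (P K (ob (g i) (hg i))).hom = x₀ ≫ (V i).hom := pt_hom g hg v
  let z₁ : W ⟶ V j := Over.homMk x₁ (by
    show x₁ ≫ (V j).hom = v.1 ≫ (P K (ob (g i) (hg i))).hom
    rw [hwi, ← Over.w (g j), ← Category.assoc, ← h₀₁, Category.assoc, Over.w (g i)])
  let z₂ : W ⟶ V k := Over.homMk x₂ (by
    show x₂ ≫ (V k).hom = v.1 ≫ (P K (ob (g i) (hg i))).hom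
    rw [hwi, ← Over.w (g k), ← Category.assoc, ← h₁₂, ← h₀₁, Category.assoc, Over.w (g i)])
  have hy₁ : y ≫ proj K (ob (g i) (hg i)) ≫ g i = z₁ ≫ g j := Over.OverMorphism.ext
    ((Category.assoc v.1 _ _).symm.trans ((congrArg (· ≫ (g i).left) hv).trans h₀₁))
  have hy₂ : y ≫ proj K (ob (g i) (hg i)) ≫ g i = z₂ ≫ g k := Over.OverMorphism.ext
    ((Category.assoc v.1 _ _).symm.trans ((congrArg (· ≫ (g i).left) hv).trans (h₀₁.trans h₁₂)))
  have h12 : tr y z₁ (b := ob (g j) (hg j)) hy₁ ≫ proj K (ob (g j) (hg j)) ≫ g j = z₂ ≫ g k := by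
    rw [← Category.assoc, tr_proj]
    exact Over.OverMorphism.ext h₁₂
  have e₁ := φf_val g hg h₀₁ v (W := W) (𝟙 _) y z₁ hy₁ (Category.id_comp _).symm (Category.id_comp _).symm
  have e₂ := φf_val g hg (h₀₁.trans h₁₂) v (W := W) (𝟙 _) y z₂ hy₂ (Category.id_comp _).symm
    (Category.id_comp _).symm
  refine Subtype.ext ((φf_val g hg h₁₂ _ (W := W) (𝟙 _) _ z₂ h12 e₁ (Category.id_comp _).symm).trans
    (Eq.trans ?_ e₂.symm))
  rw [tr_comp]

variable (K) in
/-- The descent datum of the total spaces. -/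
noncomputable def dd : Desc.SchDDFam (fun i => (g i).left) where
  obj i := Over.mk (proj K (ob (g i) (hg i))).left
  φ T' i j x₀ x₁ h :=
    { toFun := φf g hg x₀ x₁ h
      invFun := φf g hg x₁ x₀ h.symm
      left_inv := fun v => (φf_comp g hg x₀ x₁ x₀ h h.symm v).trans (φf_self g hg x₀ v)
      right_inv := fun v => (φf_comp g hg x₁ x₀ x₁ h.symm h v).trans (φf_self g hg x₁ v) }
  φ_natural T₁ T₂ k i j x₀ x₁ h y₀ y₁ hy₀ hy₁ h' v v' hv' := by
    obtain ⟨W, g₀, y, z, hyz, hv, hx⟩ := exists_pt g hg x₀ x₁ h v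
    show (φf g hg y₀ y₁ h' v').1 = k ≫ (φf g hg x₀ x₁ h v).1
    rw [φf_val g hg h v g₀ y z hyz hv hx, φf_val g hg h' v' (k ≫ g₀) y z hyz
      (by rw [hv', hv, Category.assoc]) (by rw [← hy₁, hx, Category.assoc]), Category.assoc]
  φ_self T' i x v := φf_self g hg x v
  φ_comp T' i j k x₀ x₁ x₂ h₀₁ h₁₂ v := φf_comp g hg x₀ x₁ x₂ h₀₁ h₁₂ v

variable (hfam : Presieve.ofArrows (fun i => (V i).left) (fun i => (g i).left) ∈ Scheme.fpqcPrecoverage T.left)

include hfam hg in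
/-- The descended scheme with its comparison morphisms for the members of the family. -/
theorem exists_descended [IsAffineHom G.hom] :
    ∃ (U : Over S) (ρ : U ⟶ T) (q : ∀ i, P K (ob (g i) (hg i)) ⟶ U),
      (∀ i, IsPullback (q i) (proj K (ob (g i) (hg i))) ρ (g i)) ∧
      ∀ (i j : ι) (W : Over S) (y : W ⟶ P K (ob (g i) (hg i))) (z : W ⟶ V j)
        (h : y ≫ proj K (ob (g i) (hg i)) ≫ g i = z ≫ g j),
        tr y z (b := ob (g j) (hg j)) h ≫ q j = y ≫ q i := by
  have hind : ∀ i, MoreMor.IsIndQuasiAffineHom ((dd K g hg).obj i).hom := fun i => by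
    haveI := affine_proj (K := K) (ob (g i) (hg i))
    refine RichLib.QA.indQA_of_qa _ ⟨?_, fun V hV => ?_⟩
    · exact inferInstanceAs (QuasiCompact (proj K (ob (g i) (hg i))).left)
    · haveI : IsAffine ((proj K (ob (g i) (hg i))).left ⁻¹ᵁ V).toScheme := hV.preimage _
      exact inferInstanceAs (((proj K (ob (g i) (hg i))).left ⁻¹ᵁ V).toScheme.IsQuasiAffine)
  obtain ⟨U', ⟨e⟩⟩ := DescLib.isEffective_of_indQA hfam (dd K g hg) hind
  let U : Over S := Over.mk (U'.hom ≫ T.hom)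
  let ρ : U ⟶ T := Over.homMk U'.hom
  let d : ∀ i, (P K (ob (g i) (hg i))).left ⟶ pullback (g i).left U'.hom := fun i => (e.inv.hom i).left
  have hd₁ : ∀ i, d i ≫ pullback.fst (g i).left U'.hom = (proj K (ob (g i) (hg i))).left :=
    fun i => Over.w (e.inv.hom i)
  let q : ∀ i, P K (ob (g i) (hg i)) ⟶ U := fun i => Over.homMk (d i ≫ pullback.snd (g i).left U'.hom) (by
    show (d i ≫ pullback.snd (g i).left U'.hom) ≫ U'.hom ≫ T.hom = (P K (ob (g i) (hg i))).hom
    rw [← Category.assoc, Category.assoc (d i), ← pullback.condition, ← Category.assoc, hd₁, Category.assoc,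
      Over.w (g i)]
    exact Over.w (proj K (ob (g i) (hg i))))
  refine ⟨U, ρ, q, fun i => ?_, fun i j W y z h => ?_⟩
  · have hdi : IsIso (d i) := by
      refine ⟨⟨(e.hom.hom i).left, ?_, ?_⟩⟩
      · exact congrArg CommaMorphism.left (congrFun (congrArg Desc.SchDDFam.Hom.hom e.inv_hom_id) i)
      · exact congrArg CommaMorphism.left (congrFun (congrArg Desc.SchDDFam.Hom.hom e.hom_inv_id) i)
    refine IsPullback.of_map (Over.forget S) (Over.OverMorphism.ext ?_) ?_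
    · show (d i ≫ pullback.snd (g i).left U'.hom) ≫ U'.hom = (proj K (ob (g i) (hg i))).left ≫ (g i).left
      rw [Category.assoc, ← pullback.condition, ← Category.assoc, hd₁]
    · exact (IsPullback.of_hasPullback (g i).left U'.hom).flip.of_iso (asIso (d i)).symm (Iso.refl _) (Iso.refl _)
        (Iso.refl _) (by simp [q]) (by simp [← hd₁ i]) (by simp [ρ]) (by simp)
  · apply Over.OverMorphism.ext
    show (tr y z (b := ob (g j) (hg j)) h).left ≫ d j ≫ pullback.snd (g j).left U'.hom =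
      y.left ≫ d i ≫ pullback.snd (g i).left U'.hom
    let v : Desc.Lifts (Over.mk (proj K (ob (g i) (hg i))).left : Over (V i).left)
      (y.left ≫ (proj K (ob (g i) (hg i))).left) := ⟨y.left, rfl⟩
    have hh : (y.left ≫ (proj K (ob (g i) (hg i))).left) ≫ (g i).left = z.left ≫ (g j).left :=
      (Category.assoc _ _ _).trans (congrArg CommaMorphism.left h)
    have key := e.inv.comm _ z.left hh v ⟨y.left ≫ d i, by
      show (y.left ≫ d i) ≫ pullback.fst (g i).left U'.hom = _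
      rw [Category.assoc, hd₁]⟩ rfl
    have key2 : (tr y z (b := ob (g j) (hg j)) h).left = (φf g hg _ _ hh v).1 :=
      ((φf_val g hg hh v (W := W) (𝟙 _) y z h (Category.id_comp _).symm (Category.id_comp _).symm).trans
        (Category.id_comp _)).symm
    rw [key2, ← Category.assoc]
    refine (congrArg (· ≫ pullback.snd (g j).left U'.hom) key.symm).trans ?_
    exact (pullback.lift_snd _ _ _).trans (Category.assoc _ _ _)

end fam

section dat

variable (hR : R ∈ QuotSh.J Scheme.fpqcPrecoverage S T)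

include hR in
theorem nonempty_dat [IsAffineHom G.hom] : Nonempty (Dat K) := by
  obtain ⟨ι, V, g, hg, hfam⟩ := QuotFpqc.exists_family_of_mem hR
  obtain ⟨U, ρ, q, hq, hcomp⟩ := exists_descended (K := K) g hg hfam
  let J := QuotSh.J Scheme.fpqcPrecoverage S
  have hsh : ∀ Z : Over S, Presieve.IsSheaf J (yoneda.obj Z) := fun Z =>
    GrothendieckTopology.Subcanonical.isSheaf_of_isRepresentable _
  have hgen : ∀ {Y : Over S} (p : Y ⟶ T), (Sieve.ofArrows V g).pullback p ∈ J Y := fun p =>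
    J.pullback_stable p (QuotFpqc.ofArrows_mem g hfam)
  -- all the transported points have the same image
  have hind : ∀ {W : Over S} {a : (Stk.sieveCat R).obj} (s : W ⟶ P K a) {i j : ι} (z : W ⟶ V i) (z' : W ⟶ V j)
      (h : s ≫ proj K a ≫ a.obj.hom = z ≫ g i) (h' : s ≫ proj K a ≫ a.obj.hom = z' ≫ g j),
      tr s z (b := ob (g i) (hg i)) h ≫ q i = tr s z' (b := ob (g j) (hg j)) h' ≫ q j := by
    intro W a s i j z z' h h'
    have h2 : tr s z (b := ob (g i) (hg i)) h ≫ proj K (ob (g i) (hg i)) ≫ g i = z' ≫ g j := by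
      rw [← Category.assoc, tr_proj, ← h, h']
    rw [← hcomp i j W _ z' h2, tr_comp]
  have hex : ∀ a : (Stk.sieveCat R).obj, ∃ l : P K a ⟶ U, ∀ (W : Over S) (s : W ⟶ P K a) (i : ι) (z : W ⟶ V i)
      (h : s ≫ proj K a ≫ a.obj.hom = z ≫ g i), s ≫ l = tr s z (b := ob (g i) (hg i)) h ≫ q i := by
    intro a
    choose i z hz using fun (W : Over S) (s : W ⟶ P K a)
      (hs : (Sieve.ofArrows V g).pullback (proj K a ≫ a.obj.hom) s) => (Sieve.mem_ofArrows_iff _ _ _).mp hs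
    let x : Presieve.FamilyOfElements (yoneda.obj U) ((Sieve.ofArrows V g).pullback (proj K a ≫ a.obj.hom)).arrows :=
      fun W s hs => tr s (z W s hs) (b := ob (g (i W s hs)) (hg _)) (hz W s hs) ≫ q _
    have hx : x.Compatible := by
      intro W₁ W₂ W g₁ g₂ h₁ h₂ hh₁ hh₂ hc
      have e₁ : (g₁ ≫ h₁) ≫ proj K a ≫ a.obj.hom = (g₁ ≫ z W₁ h₁ hh₁) ≫ g _ := by
        rw [Category.assoc, Category.assoc]; exact congrArg (g₁ ≫ ·) (hz W₁ h₁ hh₁)
      have e₂ : (g₂ ≫ h₂) ≫ proj K a ≫ a.obj.hom = (g₂ ≫ z W₂ h₂ hh₂) ≫ g _ := by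
        rw [Category.assoc, Category.assoc]; exact congrArg (g₂ ≫ ·) (hz W₂ h₂ hh₂)
      show g₁ ≫ x h₁ hh₁ = g₂ ≫ x h₂ hh₂
      simp only [x, ← Category.assoc]
      rw [← tr_natural h₁ _ (b := ob (g (i W₁ h₁ hh₁)) (hg _)) (hz W₁ h₁ hh₁) g₁ e₁,
        ← tr_natural h₂ _ (b := ob (g (i W₂ h₂ hh₂)) (hg _)) (hz W₂ h₂ hh₂) g₂ e₂]
      simp only [hc]
      exact hind _ _ _ _ e₂
    obtain ⟨l, hl, -⟩ := hsh U _ (hgen (proj K a ≫ a.obj.hom)) x hx
    refine ⟨l, fun W s j z' h => ?_⟩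
    have hs : (Sieve.ofArrows V g).pullback (proj K a ≫ a.obj.hom) s :=
      (Sieve.mem_ofArrows_iff _ _ _).mpr ⟨j, z', h⟩
    exact (hl s hs).trans (hind s _ _ _ h)
  choose ℓ hℓ using hex
  have hρ : ∀ a, ℓ a ≫ ρ = proj K a ≫ a.obj.hom := fun a => by
    refine ((hsh T).isSeparated _ (hgen (proj K a ≫ a.obj.hom))).ext fun W s hs => ?_
    obtain ⟨i, z, h⟩ := (Sieve.mem_ofArrows_iff _ _ _).mp hs
    show s ≫ ℓ a ≫ ρ = s ≫ proj K a ≫ a.obj.hom
    rw [← Category.assoc, hℓ a W s i z h, Category.assoc, (hq i).w, ← Category.assoc, tr_proj]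
    exact h.symm
  have inj : ∀ {W : Over S} {a : (Stk.sieveCat R).obj} (s s' : W ⟶ P K a) {i : ι} (z : W ⟶ V i),
      s ≫ proj K a ≫ a.obj.hom = z ≫ g i → s ≫ ℓ a = s' ≫ ℓ a → s ≫ proj K a = s' ≫ proj K a → s = s' := by
    intro W a s s' i z h e₁ e₂
    have h' : s' ≫ proj K a ≫ a.obj.hom = z ≫ g i := by rw [← reassoc_of% e₂]; exact h
    have key : tr s z (b := ob (g i) (hg i)) h = tr s' z (b := ob (g i) (hg i)) h' :=
      (hq i).hom_ext (by rw [← hℓ a W s i z h, ← hℓ a W s' i z h', e₁]) (by rw [tr_proj, tr_proj])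
    have back : ∀ (t : W ⟶ P K a) (ht : t ≫ proj K a ≫ a.obj.hom = z ≫ g i),
        tr (tr t z (b := ob (g i) (hg i)) ht) (t ≫ proj K a) (b := a)
          (by rw [← Category.assoc, tr_proj]; exact ht.symm.trans (Category.assoc _ _ _).symm) = t := fun t ht => by
      rw [tr_comp (h'' := (Category.assoc _ _ _).symm), tr_self t _ rfl]
    rw [← back s h, ← back s' h']
    simp only [key, e₂]
  refine ⟨{ U := U, ρ := ρ, ℓ := ℓ, cart := fun a => ?_, nat := fun a b m => ?_ }⟩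
  · have hlift : ∀ (W : Over S) (u : W ⟶ U) (w : W ⟶ a.obj.left), u ≫ ρ = w ≫ a.obj.hom →
        ∃ s : W ⟶ P K a, s ≫ ℓ a = u ∧ s ≫ proj K a = w := by
      intro W u w huw
      choose i z hz using fun (W' : Over S) (k : W' ⟶ W) (hk : (Sieve.ofArrows V g).pullback (u ≫ ρ) k) =>
        (Sieve.mem_ofArrows_iff _ _ _).mp hk
      let y : ∀ (W' : Over S) (k : W' ⟶ W) hk, W' ⟶ P K (ob (g (i W' k hk)) (hg _)) := fun W' k hk =>
        (hq (i W' k hk)).lift (k ≫ u) (z W' k hk) ((Category.assoc _ _ _).trans (hz W' k hk))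
      have hy₂ : ∀ W' k hk, y W' k hk ≫ proj K (ob (g (i W' k hk)) (hg _)) = z W' k hk :=
        fun W' k hk => IsPullback.lift_snd _ _ _ _
      have hy : ∀ W' k hk, y W' k hk ≫ proj K (ob (g (i W' k hk)) (hg _)) ≫ g _ = (k ≫ w) ≫ a.obj.hom := by
        intro W' k hk
        rw [← Category.assoc, hy₂, ← hz W' k hk, huw, Category.assoc]
      let x : Presieve.FamilyOfElements (yoneda.obj (P K a)) ((Sieve.ofArrows V g).pullback (u ≫ ρ)).arrows :=
        fun W' k hk => tr (y W' k hk) (k ≫ w) (b := a) (hy W' k hk)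
      have hx₁ : ∀ {W' : Over S} (k : W' ⟶ W) hk, x k hk ≫ proj K a = k ≫ w := fun k hk => tr_proj _ _ _
      have hx₂ : ∀ {W' : Over S} (k : W' ⟶ W) hk, x k hk ≫ ℓ a = k ≫ u := fun {W'} k hk => by
        have h : x k hk ≫ proj K a ≫ a.obj.hom = z W' k hk ≫ g _ := by
          rw [reassoc_of% (hx₁ k hk), ← huw, ← hz W' k hk]
        rw [hℓ a W' (x k hk) _ _ h]
        have h'' : y W' k hk ≫ proj K _ ≫ g _ = z W' k hk ≫ g _ := by rw [← Category.assoc, hy₂]
        refine ((congrArg (· ≫ q _) (tr_comp (b := a) (d := ob (g (i W' k hk)) (hg _)) (y W' k hk) (k ≫ w) (hy W' k hk)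
          (z W' k hk) h h'')).trans ?_)
        refine ((congrArg (· ≫ q _) (tr_self (a := ob (g (i W' k hk)) (hg _)) (y W' k hk) (z W' k hk)
          (hy₂ W' k hk) h'')).trans ?_)
        exact IsPullback.lift_fst _ _ _ _
      have hxc : x.Compatible := by
        intro W₁ W₂ W' g₁ g₂ h₁ h₂ hh₁ hh₂ hc
        show g₁ ≫ x h₁ hh₁ = g₂ ≫ x h₂ hh₂
        refine inj _ _ (g₁ ≫ z W₁ h₁ hh₁) ?_ ?_ ?_
        · rw [Category.assoc, reassoc_of% (hx₁ h₁ hh₁), ← huw, Category.assoc, ← hz W₁ h₁ hh₁]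
        · rw [Category.assoc, Category.assoc, hx₂, hx₂, reassoc_of% hc]
        · rw [Category.assoc, Category.assoc, hx₁, hx₁, reassoc_of% hc]
      obtain ⟨s, hs, -⟩ := hsh (P K a) _ (hgen (u ≫ ρ)) x hxc
      refine ⟨s, ?_, ?_⟩
      · refine ((hsh U).isSeparated _ (hgen (u ≫ ρ))).ext fun W' k hk => ?_
        show k ≫ s ≫ ℓ a = k ≫ u
        rw [← hx₂ k hk, ← Category.assoc]
        exact congrArg (· ≫ ℓ a) (hs k hk)
      · refine ((hsh a.obj.left).isSeparated _ (hgen (u ≫ ρ))).ext fun W' k hk => ?_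
        show k ≫ s ≫ proj K a = k ≫ w
        rw [← hx₁ k hk, ← Category.assoc]
        exact congrArg (· ≫ proj K a) (hs k hk)
    refine ⟨⟨hρ a⟩, ⟨PullbackCone.IsLimit.mk _ (fun c => (hlift _ c.fst c.snd c.condition).choose)
      (fun c => (hlift _ c.fst c.snd c.condition).choose_spec.1)
      (fun c => (hlift _ c.fst c.snd c.condition).choose_spec.2) fun c s h₁ h₂ => ?_⟩⟩
    refine ((hsh (P K a)).isSeparated _ (hgen (s ≫ proj K a ≫ a.obj.hom))).ext fun W' k hk => ?_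
    obtain ⟨i, z, h⟩ := (Sieve.mem_ofArrows_iff _ _ _).mp hk
    obtain ⟨e₁, e₂⟩ := (hlift _ c.fst c.snd c.condition).choose_spec
    refine inj (k ≫ s) _ z ((Category.assoc _ _ _).trans h) ?_ ?_
    · exact (Category.assoc _ _ _).trans ((congrArg (k ≫ ·) (h₁.trans e₁.symm)).trans (Category.assoc _ _ _).symm)
    · exact (Category.assoc _ _ _).trans ((congrArg (k ≫ ·) (h₂.trans e₂.symm)).trans (Category.assoc _ _ _).symm)
  · refine ((hsh U).isSeparated _ (hgen (proj K a ≫ a.obj.hom))).ext fun W s hs => ?_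
    obtain ⟨i, z, h⟩ := (Sieve.mem_ofArrows_iff _ _ _).mp hs
    have hb : (s ≫ top K m) ≫ proj K b ≫ b.obj.hom = z ≫ g i := by
      rw [Category.assoc, ← Category.assoc (top K m), (cart_top K m).w, Category.assoc, Over.w m.hom]
      exact h
    show s ≫ top K m ≫ ℓ b = s ≫ ℓ a
    rw [← Category.assoc, hℓ b W _ i z hb, hℓ a W s i z h]
    have e := tr_map m s (s ≫ proj K a ≫ m.hom.left) rfl
      (by simp only [Category.assoc]; rw [Over.w m.hom])
    congr 1
    simp only [← e]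
    exact tr_comp _ _ _ _ _ _

end dat

end BGFpqcLib
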