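import Groth.Agent.BGFpqcLib.Descend

/-!
# The quotient stack of schemes under an affine flat group is a stack for the fpqc topology
-/

set_option autoImplicit false
set_option linter.all false
set_option backward.isDefEq.respectTransparency false
set_option backward.isDefEq.respectTransparency.types false

universe u

open CategoryTheory CategoryTheory.Limits AlgebraicGeometry MonoidalCategory CartesianMonoidalCategory
open scoped MonObj

namespace BGFpqcLib

variable {S : Scheme.{u}} {G : Over S} [GrpObj G] {X : Over S} {aX : AlgGrp.Action G X} {T : Over S} {R : Sieve T}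
  {K : Stk.sieveCat R ⥤ᵇ AlgSt.QuotSt Scheme.fppfPrecoverage G aX}
  (hR : R ∈ QuotSh.J Scheme.fpqcPrecoverage S T)

theorem tr_φ {W : Over S} {a b : (Stk.sieveCat R).obj} (y : W ⟶ P K a) (z : W ⟶ b.obj.left)
    (h : y ≫ proj K a ≫ a.obj.hom = z ≫ b.obj.hom) : tr y z h ≫ (K.obj b).φ = y ≫ (K.obj a).φ := by
  obtain ⟨c, m, n, s, hm, -, e⟩ := exists_tr y z h
  rw [e, ← hm, Category.assoc, Category.assoc, (K.map n).wφ, (K.map m).wφ]

variable (D : Dat K)

include hR in
theorem exists_act : ∃ μ₀ : G ⊗ D.U ⟶ D.U, ∀ a, (G ◁ D.ℓ a) ≫ μ₀ = act K a ≫ D.ℓ a := by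
  obtain ⟨f, hf⟩ := Dat.glue (D := D) hR (snd G D.U)
    (fun W h a y _ => lift (h ≫ fst G D.U) y ≫ act K a ≫ D.ℓ a)
    (fun W W' g h a y e e' => by
      have : lift ((g ≫ h) ≫ fst G D.U) (g ≫ y) = g ≫ lift (h ≫ fst G D.U) y := by
        rw [comp_lift, Category.assoc]
      rw [this, Category.assoc])
    (fun W h a b y y' e e' => by
      obtain ⟨hz, htr⟩ := D.rel y y' (e.trans e'.symm)
      have hz' : (lift (h ≫ fst G D.U) y ≫ act K a) ≫ proj K a ≫ a.obj.hom = (y' ≫ proj K b) ≫ b.obj.hom := by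
        rw [← Category.assoc, act_proj, Category.assoc]; exact hz
      have := D.tr_ℓ _ _ hz'
      rw [tr_act y _ hz _ hz', htr] at this
      simpa only [Category.assoc] using this.symm)
  refine ⟨f, fun a => ?_⟩
  rw [hf _ (G ◁ D.ℓ a) a (snd G (P K a)) (whiskerLeft_snd _ _).symm, whiskerLeft_fst, lift_fst_snd,
    Category.id_comp]

theorem act_point {μ₀ : G ⊗ D.U ⟶ D.U} (hμ : ∀ a, (G ◁ D.ℓ a) ≫ μ₀ = act K a ≫ D.ℓ a) {W : Over S}
    {a : (Stk.sieveCat R).obj} (gm : W ⟶ G) (y : W ⟶ P K a) :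
    lift gm (y ≫ D.ℓ a) ≫ μ₀ = (lift gm y ≫ act K a) ≫ D.ℓ a := by
  rw [← lift_whiskerLeft, Category.assoc, hμ, Category.assoc]

include hR in
theorem exists_action : ∃ A : AlgGrp.Action G D.U, ∀ a, (G ◁ D.ℓ a) ≫ A.act = act K a ≫ D.ℓ a := by
  obtain ⟨μ₀, hμ⟩ := exists_act hR D
  refine ⟨⟨μ₀, Dat.hom_ext (D := D) hR (snd (𝟙_ (Over S)) D.U) _ _ fun W h a y e => ?_,
    Dat.hom_ext (D := D) hR (snd (G ⊗ G) D.U) _ _ fun W h a y e => ?_⟩, hμ⟩
  · have e1 : h ≫ (η[G] ▷ D.U) = lift (h ≫ fst (𝟙_ (Over S)) D.U ≫ η[G]) (y ≫ D.ℓ a) := by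
      apply CartesianMonoidalCategory.hom_ext <;> simp [e]
    have e2 : lift (h ≫ fst (𝟙_ (Over S)) D.U ≫ η[G]) y =
        lift (h ≫ fst (𝟙_ (Over S)) D.U) y ≫ (η[G] ▷ P K a) := by
      apply CartesianMonoidalCategory.hom_ext <;> simp
    rw [← Category.assoc, e1, act_point D hμ, e2, Category.assoc _ (η[G] ▷ P K a), (K.obj a).act.one_act,
      leftUnitor_hom, leftUnitor_hom, lift_snd, e]
  · have e1 : h ≫ (μ[G] ▷ D.U) = lift (h ≫ fst (G ⊗ G) D.U ≫ μ[G]) (y ≫ D.ℓ a) := by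
      apply CartesianMonoidalCategory.hom_ext <;> simp [e]
    have e2 : lift (h ≫ fst (G ⊗ G) D.U ≫ μ[G]) y = lift (h ≫ fst (G ⊗ G) D.U) y ≫ (μ[G] ▷ P K a) := by
      apply CartesianMonoidalCategory.hom_ext <;> simp
    have e3 : h ≫ (α_ G G D.U).hom ≫ (G ◁ μ₀) =
        lift (h ≫ fst (G ⊗ G) D.U ≫ fst G G)
          (lift (h ≫ fst (G ⊗ G) D.U ≫ snd G G) (y ≫ D.ℓ a) ≫ μ₀) := by
      apply CartesianMonoidalCategory.hom_ext
      · simp
      · simp only [Category.assoc, whiskerLeft_snd, lift_snd]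
        rw [← Category.assoc (α_ G G D.U).hom, ← Category.assoc h]
        congr 1
        apply CartesianMonoidalCategory.hom_ext <;> simp [e]
    have e4 : lift (h ≫ fst (G ⊗ G) D.U) y ≫ (α_ G G (P K a)).hom ≫ (G ◁ act K a) =
        lift (h ≫ fst (G ⊗ G) D.U ≫ fst G G)
          (lift (h ≫ fst (G ⊗ G) D.U ≫ snd G G) y ≫ act K a) := by
      apply CartesianMonoidalCategory.hom_ext
      · simp
      · simp only [Category.assoc, whiskerLeft_snd, lift_snd]
        rw [← Category.assoc (α_ G G _).hom, ← Category.assoc (lift _ y)]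
        congr 1
        apply CartesianMonoidalCategory.hom_ext <;> simp
    calc h ≫ (μ[G] ▷ D.U) ≫ μ₀ = (lift (h ≫ fst (G ⊗ G) D.U ≫ μ[G]) y ≫ act K a) ≫ D.ℓ a := by
          rw [← Category.assoc, e1, act_point D hμ]
      _ = ((lift (h ≫ fst (G ⊗ G) D.U) y ≫ (α_ G G (P K a)).hom ≫ (G ◁ act K a)) ≫ act K a) ≫ D.ℓ a := by
          rw [e2, Category.assoc _ (μ[G] ▷ P K a), (K.obj a).act.mul_act]
          simp only [Category.assoc]
      _ = lift (h ≫ fst (G ⊗ G) D.U ≫ fst G G)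
            ((lift (h ≫ fst (G ⊗ G) D.U ≫ snd G G) y ≫ act K a) ≫ D.ℓ a) ≫ μ₀ := by
          rw [e4, act_point D hμ]
      _ = h ≫ (α_ G G D.U).hom ≫ (G ◁ μ₀) ≫ μ₀ := by
          rw [← act_point D hμ, ← e3]
          simp only [Category.assoc]

variable (A : AlgGrp.Action G D.U) (hA : ∀ a, (G ◁ D.ℓ a) ≫ A.act = act K a ≫ D.ℓ a)

include hR hA in
theorem isPullback_act : IsPullback A.act (snd G D.U) D.ρ D.ρ := by
  have hw : A.act ≫ D.ρ = snd G D.U ≫ D.ρ := by
    refine Dat.hom_ext (D := D) hR (snd G D.U) _ _ fun W h a y e => ?_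
    have eh : h = lift (h ≫ fst G D.U) (y ≫ D.ℓ a) := by
      apply CartesianMonoidalCategory.hom_ext <;> simp [e]
    rw [← Category.assoc h, ← Category.assoc h (snd G D.U)]
    conv_lhs => rw [eh, act_point D hA]
    rw [← e, Category.assoc, (D.cart a).w, ← Category.assoc, act_proj, Category.assoc, Category.assoc, (D.cart a).w]
  have hlift : ∀ (W₀ : Over S) (u' u : W₀ ⟶ D.U), u' ≫ D.ρ = u ≫ D.ρ →
      ∃ s : W₀ ⟶ G ⊗ D.U, s ≫ A.act = u' ∧ s ≫ snd G D.U = u := by
    intro W₀ u' u huu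
    have hyy : ∀ (W : Over S) (h : W ⟶ W₀) (a : (Stk.sieveCat R).obj) (y : W ⟶ P K a), y ≫ D.ℓ a = h ≫ u →
        (h ≫ u') ≫ D.ρ = (y ≫ proj K a) ≫ a.obj.hom := fun W h a y e => by
      rw [Category.assoc, huu, ← Category.assoc, ← e, Category.assoc, (D.cart a).w, Category.assoc]
    let y₂ : ∀ (W : Over S) (h : W ⟶ W₀) (a : (Stk.sieveCat R).obj) (y : W ⟶ P K a), y ≫ D.ℓ a = h ≫ u →
        (W ⟶ P K a) := fun W h a y e => (D.cart a).lift (h ≫ u') (y ≫ proj K a) (hyy W h a y e)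
    have h21 : ∀ W h a y e, y₂ W h a y e ≫ D.ℓ a = h ≫ u' := fun W h a y e => IsPullback.lift_fst _ _ _ _
    have h22 : ∀ W h a y e, y₂ W h a y e ≫ proj K a = y ≫ proj K a := fun W h a y e =>
      IsPullback.lift_snd _ _ _ _
    let σ : ∀ (W : Over S) (h : W ⟶ W₀) (a : (Stk.sieveCat R).obj) (y : W ⟶ P K a), y ≫ D.ℓ a = h ≫ u →
        (W ⟶ G ⊗ P K a) := fun W h a y e => (cart_act K a).lift (y₂ W h a y e) y (h22 W h a y e)
    have hσ : ∀ W h a y e, lift (σ W h a y e ≫ fst _ _) y ≫ act K a = y₂ W h a y e := fun W h a y e => by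
      have h2 : σ W h a y e ≫ snd _ _ = y := IsPullback.lift_snd _ _ _ _
      conv_lhs => arg 1; arg 2; rw [← h2]
      rw [lift_comp_fst_snd]
      exact IsPullback.lift_fst _ _ _ _
    have hu : ∀ (W : Over S) (a : (Stk.sieveCat R).obj) (gm gm' : W ⟶ G) (y : W ⟶ P K a),
        lift gm y ≫ act K a = lift gm' y ≫ act K a → gm = gm' := fun W a gm gm' y he => by
      have := (cart_act K a).hom_ext (W := W) (k := lift gm y) (l := lift gm' y) he (by simp)
      simpa using congrArg (· ≫ fst _ _) this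
    obtain ⟨gm, hgm⟩ := Dat.glue (D := D) hR u (fun W h a y e => σ W h a y e ≫ fst _ _)
      (fun W W' g h a y e e' => by
        refine hu W' a _ _ (g ≫ y) ?_
        rw [hσ W' (g ≫ h) a (g ≫ y) e', ← comp_lift, Category.assoc, hσ W h a y e]
        refine (D.cart a).hom_ext ?_ ?_
        · rw [h21 W' (g ≫ h) a (g ≫ y) e', Category.assoc, Category.assoc, h21 W h a y e]
        · rw [h22 W' (g ≫ h) a (g ≫ y) e', Category.assoc, Category.assoc, h22 W h a y e])
      (fun W h a b y y' e e' => by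
        obtain ⟨hz, htr⟩ := D.rel y y' (e.trans e'.symm)
        refine hu W b _ _ y' ?_
        rw [hσ W h b y' e']
        have hz' : (lift (σ W h a y e ≫ fst _ _) y ≫ act K a) ≫ proj K a ≫ a.obj.hom =
            (y' ≫ proj K b) ≫ b.obj.hom := by
          rw [← Category.assoc, act_proj, Category.assoc]; exact hz
        have hL := D.tr_ℓ _ _ hz'
        have hP := tr_proj _ _ hz'
        rw [tr_act y _ hz _ hz', htr] at hL hP
        rw [hσ W h a y e, h21 W h a y e] at hL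
        exact (D.cart b).hom_ext (hL.trans (h21 W h b y' e').symm) (hP.trans (h22 W h b y' e').symm))
    refine ⟨lift gm u, Dat.hom_ext (D := D) hR u _ _ fun W h a y e => ?_, lift_snd _ _⟩
    rw [← Category.assoc, comp_lift, ← e, act_point D hA, hgm W h a y e, hσ W h a y e, h21 W h a y e]
  refine ⟨⟨hw⟩, ⟨PullbackCone.IsLimit.mk _ (fun c => (hlift _ c.fst c.snd c.condition).choose)
    (fun c => (hlift _ c.fst c.snd c.condition).choose_spec.1)
    (fun c => (hlift _ c.fst c.snd c.condition).choose_spec.2) fun c s h₁ h₂ => ?_⟩⟩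
  obtain ⟨e₁, e₂⟩ := (hlift _ c.fst c.snd c.condition).choose_spec
  apply CartesianMonoidalCategory.hom_ext
  · refine Dat.hom_ext (D := D) hR c.snd _ _ fun W h a y e => ?_
    have key : ∀ t : c.pt ⟶ G ⊗ D.U, t ≫ A.act = c.fst → t ≫ snd G D.U = c.snd →
        (lift (h ≫ t ≫ fst G D.U) y ≫ act K a) ≫ D.ℓ a = h ≫ c.fst := fun t ht₁ ht₂ => by
      rw [← act_point D hA, e, ← ht₂, ← comp_lift, lift_comp_fst_snd, Category.assoc, ht₁]
    have h3 : lift (h ≫ s ≫ fst G D.U) y ≫ act K a =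
        lift (h ≫ (hlift _ c.fst c.snd c.condition).choose ≫ fst G D.U) y ≫ act K a :=
      (D.cart a).hom_ext ((key s h₁ h₂).trans (key _ e₁ e₂).symm) (by rw [act_proj, act_proj])
    have := (cart_act K a).hom_ext (k := lift (h ≫ s ≫ fst G D.U) y)
      (l := lift (h ≫ (hlift _ c.fst c.snd c.condition).choose ≫ fst G D.U) y) h3 (by simp)
    simpa using congrArg (· ≫ fst _ _) this
  · rw [h₂, e₂]

include hR in
theorem exists_φ : ∃ f : D.U ⟶ X, ∀ a, D.ℓ a ≫ f = (K.obj a).φ := by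
  obtain ⟨f, hf⟩ := Dat.glue (D := D) hR (𝟙 D.U) (fun W h a y _ => y ≫ (K.obj a).φ)
    (fun W W' g h a y e e' => Category.assoc _ _ _)
    (fun W h a b y y' e e' => by
      obtain ⟨hz, htr⟩ := D.rel y y' (e.trans e'.symm)
      rw [← htr]
      exact (tr_φ _ _ hz).symm)
  exact ⟨f, fun a => (hf _ (D.ℓ a) a (𝟙 _) ((Category.id_comp _).trans (Category.comp_id _).symm)).trans
    (Category.id_comp _)⟩

include hR in
theorem loc_ρ [IsAffineHom G.hom] [Flat G.hom] :
    NonAbH1.IsLocallyTrivialFor Scheme.fpqcPrecoverage (Over.mk D.ρ.left : Over T.left) := by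
  obtain ⟨idx, V, g, hg, hfam⟩ := QuotFpqc.exists_family_of_mem hR
  have hsing : ∀ i, Presieve.ofArrows (fun _ : PUnit.{u + 1} => (P K (ob (g i) (hg i))).left)
      (fun _ : PUnit.{u + 1} => (proj K (ob (g i) (hg i))).left) ∈ Scheme.fpqcPrecoverage (V i).left := fun i => by
    let a := ob (g i) (hg i)
    haveI := affine_proj (K := K) a
    haveI : IsIso (eqToHom (baseEq K a)).left :=
      inferInstanceAs (IsIso ((Over.forget S).map (eqToHom (baseEq K a))))
    haveI : Flat (K.obj a).π.left :=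
      prop_π @Flat (K.obj a).act (K.obj a).π (K.obj a).cart (loc_fpqc _ (K.obj a).loc) ‹_›
    haveI : Surjective (K.obj a).π.left := surjective_π _ (loc_fpqc _ (K.obj a).loc)
    haveI : Flat (proj K a).left := by rw [proj, Over.comp_left]; infer_instance
    haveI : Surjective (proj K a).left := by rw [proj, Over.comp_left]; infer_instance
    rw [Presieve.ofArrows_pUnit]
    exact (proj K a).left.singleton_mem_fpqcPrecoverage
  refine ⟨_, Precoverage.comp_mem_coverings _ hfam (fun i _ => (proj K (ob (g i) (hg i))).left) hsing, ?_⟩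
  rintro T' f ⟨⟨i, _⟩⟩
  exact ⟨(D.ℓ (ob (g i) (hg i))).left, congrArg CommaMorphism.left (D.cart (ob (g i) (hg i))).w⟩

/-- The scheme underlying a cocone. -/
noncomputable def datOf (c : SpTorsLib.Cocone K) : Dat K where
  U := c.pt.P
  ρ := c.pt.π ≫ eqToHom c.pt_base
  ℓ a := (c.leg a).top
  cart a := by
    have hb : (c.leg a).base ≫ eqToHom c.pt_base = eqToHom (baseEq K a) ≫ a.obj.hom := by
      haveI := c.leg_lift a
      have := IsHomLift.fac' (AlgSt.QuotObj.forget Scheme.fppfPrecoverage G aX) a.obj.hom (c.leg a)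
      rw [show (c.leg a).base = _ from this]
      simp
    refine (c.leg a).cart.of_iso (Iso.refl _) (Iso.refl _) (eqToIso (baseEq K a)) (eqToIso c.pt_base) ?_ ?_ ?_ ?_
    · simp
    · simp [proj]
    · simp
    · simp [hb]
  nat a b m := congrArg AlgSt.QuotObj.Hom.top (c.leg_nat a b m)

theorem base_of_lift {A B : AlgSt.QuotObj Scheme.fppfPrecoverage G aX} {U₁ U₂ : Over S} (f : U₁ ⟶ U₂) (g : A ⟶ B)
    (h : (AlgSt.QuotObj.forget Scheme.fppfPrecoverage G aX).IsHomLift f g) (e₁ : A.base = U₁) (e₂ : B.base = U₂) :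
    g.base = eqToHom e₁ ≫ f ≫ eqToHom e₂.symm :=
  IsHomLift.fac' (AlgSt.QuotObj.forget Scheme.fppfPrecoverage G aX) f g

variable (K)

include hR in
theorem existsUnique_of_cocones (c c' : SpTorsLib.Cocone K) :
    ∃! n : c.pt ⟶ c'.pt, (AlgSt.QuotObj.forget Scheme.fppfPrecoverage G aX).IsHomLift (𝟙 T) n ∧
      ∀ a, c.leg a ≫ n = c'.leg a := by
  obtain ⟨f, hf, huniq⟩ := Dat.existsUnique_hom (D := datOf c) hR (datOf c')
  haveI := Dat.isIso_hom (D := datOf c) hR (datOf c') f hf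
  have hρ : f ≫ c'.pt.π ≫ eqToHom c'.pt_base = c.pt.π ≫ eqToHom c.pt_base :=
    Dat.hom_ρ (D := datOf c) hR (datOf c') f hf
  let f' : c.pt.P ⟶ c'.pt.P := f
  haveI : IsIso f' := ‹IsIso f›
  have hf' : ∀ a, (c.leg a).top ≫ f' = (c'.leg a).top := hf
  let b₀ : c.pt.base ⟶ c'.pt.base := eqToHom c.pt_base ≫ eqToHom c'.pt_base.symm
  haveI : IsIso b₀ := inferInstance
  have hπ : f' ≫ c'.pt.π = c.pt.π ≫ b₀ := by
    rw [← cancel_mono (eqToHom c'.pt_base)]
    simpa [b₀] using hρ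
  have heq : c.pt.act.act ≫ f' = (G ◁ f') ≫ c'.pt.act.act := by
    refine Dat.hom_ext (D := datOf c) hR (snd G c.pt.P) _ _ fun W h a y e => ?_
    have e' : y ≫ (c.leg a).top = h ≫ snd G c.pt.P := e
    have eh : h = lift (h ≫ fst G c.pt.P) y ≫ (G ◁ (c.leg a).top) := by
      rw [lift_whiskerLeft, e', lift_comp_fst_snd]
    rw [eh]
    simp only [Category.assoc]
    rw [← reassoc_of% (c.leg a).eqv, hf', (c'.leg a).eqv, ← MonoidalCategory.whiskerLeft_comp_assoc, hf']
  have hφ : f' ≫ c'.pt.φ = c.pt.φ := by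
    refine Dat.hom_ext (D := datOf c) hR (𝟙 _) _ _ fun W h a y e => ?_
    have e' : y ≫ (c.leg a).top = h := e.trans (Category.comp_id _)
    rw [← e', Category.assoc, Category.assoc, reassoc_of% (hf' a), (c'.leg a).wφ, (c.leg a).wφ]
  let n : c.pt ⟶ c'.pt := ⟨b₀, f', heq, IsPullback.of_horiz_isIso ⟨hπ⟩, hφ⟩
  refine ⟨n, ⟨IsHomLift.of_fac' (AlgSt.QuotObj.forget Scheme.fppfPrecoverage G aX) _ _ c.pt_base c'.pt_base
    (show b₀ = eqToHom c.pt_base ≫ 𝟙 T ≫ eqToHom c'.pt_base.symm by simp [b₀]), fun a => ?_⟩, ?_⟩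
  · refine AlgSt.QuotObj.hom_ext ?_ (hf' a)
    show (c.leg a).base ≫ b₀ = (c'.leg a).base
    rw [base_of_lift _ _ (c.leg_lift a) (baseEq K a) c.pt_base,
      base_of_lift _ _ (c'.leg_lift a) (baseEq K a) c'.pt_base]
    simp [b₀]
  · rintro n' ⟨hl, hn'⟩
    refine AlgSt.QuotObj.hom_ext ?_ (huniq n'.top fun a => congrArg AlgSt.QuotObj.Hom.top (hn' a))
    rw [base_of_lift _ _ hl c.pt_base c'.pt_base]
    simp [n, b₀]

variable [IsAffineHom G.hom] [Flat G.hom] [LocallyOfFinitePresentation G.hom]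

include hR in
theorem nonempty_cocone : Nonempty (SpTorsLib.Cocone K) := by
  obtain ⟨D⟩ := nonempty_dat (K := K) hR
  obtain ⟨A, hA⟩ := exists_action hR D
  obtain ⟨f, hf⟩ := exists_φ hR D
  have hc := isPullback_act hR D A hA
  have heqv : A.act ≫ f = (G ◁ f) ≫ aX.act := by
    refine Dat.hom_ext (D := D) hR (snd G D.U) _ _ fun W h a y e => ?_
    have eh : h = lift (h ≫ fst G D.U) y ≫ (G ◁ D.ℓ a) := by
      rw [lift_whiskerLeft, e, lift_comp_fst_snd]
    rw [eh]
    simp only [Category.assoc]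
    rw [reassoc_of% (hA a), hf, (K.obj a).eqv, ← MonoidalCategory.whiskerLeft_comp_assoc, hf]
  let A₀ : AlgSt.QuotObj Scheme.fppfPrecoverage G aX :=
    ⟨T, D.U, A, D.ρ, hc, loc_fppf A D.ρ hc (loc_ρ hR D), f, heqv⟩
  let leg : ∀ a, K.obj a ⟶ A₀ := fun a => ⟨eqToHom (baseEq K a) ≫ a.obj.hom, D.ℓ a, (hA a).symm,
    (D.cart a).of_iso (Iso.refl _) (Iso.refl _) (eqToIso (baseEq K a)).symm (Iso.refl _) (by simp [A₀])
      (by simp [proj]) (by simp [A₀]) (by simp), hf a⟩
  refine ⟨{ pt := A₀, pt_base := rfl, leg := leg, leg_lift := fun a => ?_, leg_nat := fun a b m => ?_ }⟩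
  · exact IsHomLift.of_fac' (AlgSt.QuotObj.forget Scheme.fppfPrecoverage G aX) _ _ (baseEq K a) rfl
      (show (leg a).base = eqToHom (baseEq K a) ≫ a.obj.hom ≫ eqToHom (rfl : T = T) by simp [leg])
  · refine AlgSt.QuotObj.hom_ext ?_ (D.nat a b m)
    show (K.map m).base ≫ eqToHom (baseEq K b) ≫ b.obj.hom = eqToHom (baseEq K a) ≫ a.obj.hom
    rw [base_map]
    simp [Over.w m.hom]

omit K in
theorem isStack_fppf_quotSt : Stk.IsStack (QuotSh.J Scheme.fpqcPrecoverage S)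
    (AlgSt.QuotSt Scheme.fppfPrecoverage G aX) := by
  haveI : FibCat.IsFibGrpd (AlgSt.QuotSt Scheme.fppfPrecoverage G aX).p := QuotTransLib.isFibGrpd
  exact ⟨inferInstance, fun U R hR => SpTorsLib.isStackFor_of_initial (fun K => nonempty_cocone K hR)
    (fun K c c' => existsUnique_of_cocones K hR c c')⟩

variable (aX) in
omit K in
/-- For an affine flat group locally of finite presentation the quotient stack is a stack for fpqc. -/
theorem isStack_fpqc_quotSt : Stk.IsStack (QuotSh.J Scheme.fpqcPrecoverage S)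
    (AlgSt.QuotSt Scheme.fpqcPrecoverage G aX) :=
  (Groth.Agent.S12793.result _ (FQ aX) (isEquivOver_FQ aX)).mp isStack_fppf_quotSt

end BGFpqcLib
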