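import Groth.Agent.BGFpqcLib.Basic
import Groth.Agent.SpTorsLib.Criterion
import Groth.Prelude.Def_CGrpSh

/-!
# Points of a descent datum of torsors and gluing of morphisms
-/

set_option autoImplicit false
set_option linter.all false
set_option backward.isDefEq.respectTransparency false
set_option backward.isDefEq.respectTransparency.types false

universe u

open CategoryTheory CategoryTheory.Limits AlgebraicGeometry MonoidalCategory CartesianMonoidalCategory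

namespace BGFpqcLib

variable {S : Scheme.{u}} {G : Over S} [GrpObj G] {X : Over S} {aX : AlgGrp.Action G X} {T : Over S} {R : Sieve T}
  (K : Stk.sieveCat R ⥤ᵇ AlgSt.QuotSt Scheme.fppfPrecoverage G aX)

/-- An object of the sieve. -/
def ob {W : Over S} (w : W ⟶ T) (hw : R w) : (Stk.sieveCat R).obj := ⟨Over.mk w, hw⟩

/-- A morphism of the sieve. -/
def mor (a b : (Stk.sieveCat R).obj) (g : a.obj.left ⟶ b.obj.left) (h : g ≫ b.obj.hom = a.obj.hom) : a ⟶ b :=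
  ObjectProperty.homMk (Over.homMk g h)

omit [GrpObj G] in
theorem mor_ext {a b : (Stk.sieveCat R).obj} {m n : a ⟶ b} (h : m.hom.left = n.hom.left) : m = n :=
  ObjectProperty.hom_ext _ (Over.OverMorphism.ext h)

theorem baseEq (a : (Stk.sieveCat R).obj) : (K.obj a).base = a.obj.left := K.w_obj a

/-- The torsor over an object of the sieve. -/
abbrev P (a : (Stk.sieveCat R).obj) : Over S := (K.obj a).P

/-- The action on it. -/
abbrev act (a : (Stk.sieveCat R).obj) : G ⊗ P K a ⟶ P K a := (K.obj a).act.act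

/-- Its structure morphism. -/
noncomputable def proj (a : (Stk.sieveCat R).obj) : P K a ⟶ a.obj.left := (K.obj a).π ≫ eqToHom (baseEq K a)

/-- The transition morphism. -/
abbrev top {a b : (Stk.sieveCat R).obj} (m : a ⟶ b) : P K a ⟶ P K b := (K.map m).top

theorem top_id (a : (Stk.sieveCat R).obj) : top K (𝟙 a) = 𝟙 _ := by
  show (K.map (𝟙 a)).top = 𝟙 _
  rw [K.toFunctor.map_id]
  rfl

theorem top_comp {a b c : (Stk.sieveCat R).obj} (m : a ⟶ b) (n : b ⟶ c) :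
    top K (m ≫ n) = top K m ≫ top K n := by
  show (K.map (m ≫ n)).top = (K.map m).top ≫ (K.map n).top
  rw [K.toFunctor.map_comp]
  rfl

theorem base_map {a b : (Stk.sieveCat R).obj} (m : a ⟶ b) :
    (K.map m).base = eqToHom (baseEq K a) ≫ m.hom.left ≫ eqToHom (baseEq K b).symm :=
  CategoryTheory.Functor.congr_hom K.w m

theorem cart_top {a b : (Stk.sieveCat R).obj} (m : a ⟶ b) :
    IsPullback (top K m) (proj K a) (proj K b) m.hom.left := by
  refine (K.map m).cart.of_iso (Iso.refl _) (Iso.refl _) (eqToIso (baseEq K a)) (eqToIso (baseEq K b))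
    ?_ ?_ ?_ ?_
  · simp
  · simp [proj]
  · simp [proj]
  · rw [base_map]; simp

theorem cart_act (a : (Stk.sieveCat R).obj) : IsPullback (act K a) (snd G (P K a)) (proj K a) (proj K a) := by
  refine (K.obj a).cart.of_iso (Iso.refl _) (Iso.refl _) (Iso.refl _) (eqToIso (baseEq K a)) ?_ ?_ ?_ ?_ <;>
    simp [proj, act]

theorem act_top {a b : (Stk.sieveCat R).obj} (m : a ⟶ b) {W : Over S} (γ : W ⟶ G) (s : W ⟶ P K a) :
    (lift γ s ≫ act K a) ≫ top K m = lift γ (s ≫ top K m) ≫ act K b := by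
  rw [Category.assoc, (K.map m).eqv, ← Category.assoc, lift_whiskerLeft]

theorem act_proj (a : (Stk.sieveCat R).obj) {W : Over S} (γ : W ⟶ G) (s : W ⟶ P K a) :
    (lift γ s ≫ act K a) ≫ proj K a = s ≫ proj K a := by
  rw [Category.assoc, (cart_act K a).w, lift_snd_assoc]

variable {K}

section tr

variable {W : Over S} {a b : (Stk.sieveCat R).obj} (y : W ⟶ P K a) (z : W ⟶ b.obj.left)
  (h : y ≫ proj K a ≫ a.obj.hom = z ≫ b.obj.hom)

/-- The point over `z` corresponding to `y`. -/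
noncomputable def tr : W ⟶ P K b :=
  let c := ob (z ≫ b.obj.hom) (R.downward_closed b.property z)
  let m : c ⟶ a := mor c a (y ≫ proj K a) ((Category.assoc _ _ _).trans h)
  let n : c ⟶ b := mor c b z rfl
  (cart_top K m).lift y (𝟙 W) (Category.id_comp _).symm ≫ top K n

theorem tr_eq (c : (Stk.sieveCat R).obj) (m : c ⟶ a) (n : c ⟶ b) (s : W ⟶ P K c) (hm : s ≫ top K m = y)
    (hn : s ≫ proj K c ≫ n.hom.left = z) : tr y z h = s ≫ top K n := by
  let c₀ := ob (z ≫ b.obj.hom) (R.downward_closed b.property z)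
  let m₀ : c₀ ⟶ a := mor c₀ a (y ≫ proj K a) ((Category.assoc _ _ _).trans h)
  let n₀ : c₀ ⟶ b := mor c₀ b z rfl
  let r : c₀ ⟶ c := mor c₀ c (s ≫ proj K c) (by
    show (s ≫ proj K c) ≫ c.obj.hom = z ≫ b.obj.hom
    rw [← hn]
    simp only [Category.assoc]
    rw [Over.w n.hom])
  let s₀ : W ⟶ P K c₀ := (cart_top K r).lift s (𝟙 W) (Category.id_comp _).symm
  have h1 : s₀ ≫ top K r = s := (cart_top K r).lift_fst _ _ _
  have h2 : s₀ ≫ proj K c₀ = 𝟙 W := (cart_top K r).lift_snd _ _ _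
  have em : r ≫ m = m₀ := mor_ext (by
    show (s ≫ proj K c) ≫ m.hom.left = y ≫ proj K a
    rw [← hm, Category.assoc, Category.assoc, (cart_top K m).w])
  have en : r ≫ n = n₀ := mor_ext (by
    show (s ≫ proj K c) ≫ n.hom.left = z
    rw [Category.assoc]; exact hn)
  have e : (cart_top K m₀).lift y (𝟙 W) (Category.id_comp _).symm = s₀ := by
    apply (cart_top K m₀).hom_ext
    · rw [IsPullback.lift_fst, ← em, top_comp, reassoc_of% h1, hm]
    · rw [IsPullback.lift_snd, h2]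
  show (cart_top K m₀).lift y (𝟙 W) (Category.id_comp _).symm ≫ top K n₀ = _
  rw [e, ← en, top_comp, reassoc_of% h1]

theorem exists_tr : ∃ (c : (Stk.sieveCat R).obj) (m : c ⟶ a) (n : c ⟶ b) (s : W ⟶ P K c),
    s ≫ top K m = y ∧ s ≫ proj K c ≫ n.hom.left = z ∧ tr y z h = s ≫ top K n :=
  ⟨_, _, _, _, IsPullback.lift_fst _ _ _ _, (reassoc_of% IsPullback.lift_snd _ _ _ _) _, rfl⟩

theorem tr_proj : tr y z h ≫ proj K b = z := by
  obtain ⟨c, m, n, s, -, hn, e⟩ := exists_tr y z h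
  rw [e, Category.assoc, (cart_top K n).w]
  exact hn

theorem tr_natural {W' : Over S} (g : W' ⟶ W)
    (h' : (g ≫ y) ≫ proj K a ≫ a.obj.hom = (g ≫ z) ≫ b.obj.hom) : tr (g ≫ y) (g ≫ z) h' = g ≫ tr y z h := by
  obtain ⟨c, m, n, s, hm, hn, e⟩ := exists_tr y z h
  rw [tr_eq (g ≫ y) (g ≫ z) h' c m n (g ≫ s) (by rw [Category.assoc, hm]) (by rw [Category.assoc, hn]), e,
    Category.assoc]

theorem tr_comp {d : (Stk.sieveCat R).obj} (w : W ⟶ d.obj.left)
    (h' : tr y z h ≫ proj K b ≫ b.obj.hom = w ≫ d.obj.hom)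
    (h'' : y ≫ proj K a ≫ a.obj.hom = w ≫ d.obj.hom) : tr (tr y z h) w h' = tr y w h'' := by
  let c := ob (z ≫ b.obj.hom) (R.downward_closed b.property z)
  let m : c ⟶ a := mor c a (y ≫ proj K a) ((Category.assoc _ _ _).trans h)
  let n : c ⟶ b := mor c b z rfl
  let l : c ⟶ d := mor c d w (h''.symm.trans h)
  let s : W ⟶ P K c := (cart_top K m).lift y (𝟙 W) (Category.id_comp _).symm
  have h2 : s ≫ proj K c ≫ l.hom.left = w := by
    rw [← Category.assoc, (cart_top K m).lift_snd]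
    exact Category.id_comp _
  rw [tr_eq (tr y z h) w h' c n l s rfl h2, tr_eq y w h'' c m l s ((cart_top K m).lift_fst _ _ _) h2]

theorem tr_act (γ : W ⟶ G) (h' : (lift γ y ≫ act K a) ≫ proj K a ≫ a.obj.hom = z ≫ b.obj.hom) :
    tr (lift γ y ≫ act K a) z h' = lift γ (tr y z h) ≫ act K b := by
  obtain ⟨c, m, n, s, hm, hn, e⟩ := exists_tr y z h
  rw [tr_eq _ z h' c m n (lift γ s ≫ act K c) (by rw [act_top, hm])
    (by rw [← Category.assoc, act_proj, Category.assoc, hn]), e, act_top]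

end tr

theorem tr_self {W : Over S} {a : (Stk.sieveCat R).obj} (y : W ⟶ P K a) (z : W ⟶ a.obj.left)
    (hz : y ≫ proj K a = z) (h : y ≫ proj K a ≫ a.obj.hom = z ≫ a.obj.hom) : tr y z h = y := by
  rw [tr_eq y z h a (𝟙 a) (𝟙 a) y (by rw [top_id, Category.comp_id])
    (by rw [← Category.assoc, hz]; exact Category.comp_id _), top_id, Category.comp_id]

theorem tr_map {W : Over S} {a b : (Stk.sieveCat R).obj} (m : a ⟶ b) (y : W ⟶ P K a) (z : W ⟶ b.obj.left)
    (hz : y ≫ proj K a ≫ m.hom.left = z) (h : y ≫ proj K a ≫ a.obj.hom = z ≫ b.obj.hom) :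
    tr y z h = y ≫ top K m :=
  tr_eq y z h a (𝟙 a) m y (by rw [top_id, Category.comp_id]) hz

variable (K) in
/-- A scheme over the base whose pullbacks are the given torsors. -/
structure Dat where
  /-- the scheme -/
  U : Over S
  /-- its structure morphism -/
  ρ : U ⟶ T
  /-- the comparison morphisms -/
  ℓ : ∀ a, P K a ⟶ U
  cart : ∀ a, IsPullback (ℓ a) (proj K a) ρ a.obj.hom
  nat : ∀ a b (m : a ⟶ b), top K m ≫ ℓ b = ℓ a

namespace Dat

variable (D : Dat K)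

theorem tr_ℓ {W : Over S} {a b : (Stk.sieveCat R).obj} (y : W ⟶ P K a) (z : W ⟶ b.obj.left)
    (h : y ≫ proj K a ≫ a.obj.hom = z ≫ b.obj.hom) : tr y z h ≫ D.ℓ b = y ≫ D.ℓ a := by
  obtain ⟨c, m, n, s, hm, -, e⟩ := exists_tr y z h
  rw [e, ← hm, Category.assoc, Category.assoc, D.nat, D.nat]

theorem rel {W : Over S} {a b : (Stk.sieveCat R).obj} (y : W ⟶ P K a) (y' : W ⟶ P K b)
    (e : y ≫ D.ℓ a = y' ≫ D.ℓ b) :
    ∃ h, tr y (y' ≫ proj K b) h = y' := by
  have h : y ≫ proj K a ≫ a.obj.hom = (y' ≫ proj K b) ≫ b.obj.hom := by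
    rw [← (D.cart a).w, reassoc_of% e, (D.cart b).w, Category.assoc]
  refine ⟨h, (D.cart b).hom_ext ?_ (tr_proj y _ h)⟩
  rw [D.tr_ℓ, e]

variable {D}

theorem exists_lift_point {Y : Over S} (p : Y ⟶ D.U) {W : Over S} (h : W ⟶ Y) (hh : R (h ≫ p ≫ D.ρ)) :
    ∃ (a : (Stk.sieveCat R).obj) (y : W ⟶ P K a), y ≫ D.ℓ a = h ≫ p :=
  ⟨ob (h ≫ p ≫ D.ρ) hh, (D.cart _).lift (h ≫ p) (𝟙 W) ((Category.assoc _ _ _).trans (Category.id_comp _).symm),
    IsPullback.lift_fst _ _ _ _⟩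

variable (hR : R ∈ QuotSh.J Scheme.fpqcPrecoverage S T)

include hR in
theorem hom_ext {Y Z : Over S} (p : Y ⟶ D.U) (f g : Y ⟶ Z)
    (H : ∀ (W : Over S) (h : W ⟶ Y) (a : (Stk.sieveCat R).obj) (y : W ⟶ P K a),
      y ≫ D.ℓ a = h ≫ p → h ≫ f = h ≫ g) : f = g := by
  refine ((GrothendieckTopology.Subcanonical.isSheaf_of_isRepresentable (J := QuotSh.J Scheme.fpqcPrecoverage S)
    (yoneda.obj Z)).isSeparated _ ((QuotSh.J Scheme.fpqcPrecoverage S).pullback_stable (p ≫ D.ρ) hR)).ext ?_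
  intro W h hh
  obtain ⟨a, y, hy⟩ := exists_lift_point p h hh
  exact H W h a y hy

include hR in
theorem glue {Y Z : Over S} (p : Y ⟶ D.U)
    (val : ∀ (W : Over S) (h : W ⟶ Y) (a : (Stk.sieveCat R).obj) (y : W ⟶ P K a),
      y ≫ D.ℓ a = h ≫ p → (W ⟶ Z))
    (hnat : ∀ (W W' : Over S) (g : W' ⟶ W) (h : W ⟶ Y) (a : (Stk.sieveCat R).obj) (y : W ⟶ P K a)
      (e : y ≫ D.ℓ a = h ≫ p) (e' : (g ≫ y) ≫ D.ℓ a = (g ≫ h) ≫ p),
      val W' (g ≫ h) a (g ≫ y) e' = g ≫ val W h a y e)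
    (hind : ∀ (W : Over S) (h : W ⟶ Y) (a b : (Stk.sieveCat R).obj) (y : W ⟶ P K a) (y' : W ⟶ P K b)
      (e : y ≫ D.ℓ a = h ≫ p) (e' : y' ≫ D.ℓ b = h ≫ p), val W h a y e = val W h b y' e') :
    ∃ f : Y ⟶ Z, ∀ (W : Over S) (h : W ⟶ Y) (a : (Stk.sieveCat R).obj) (y : W ⟶ P K a)
      (e : y ≫ D.ℓ a = h ≫ p), h ≫ f = val W h a y e := by
  choose A y hy using fun (W : Over S) (h : W ⟶ Y) (hh : R (h ≫ p ≫ D.ρ)) => exists_lift_point p h hh
  let x : Presieve.FamilyOfElements (yoneda.obj Z) (R.pullback (p ≫ D.ρ)).arrows := fun W h hh =>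
    val W h (A W h hh) (y W h hh) (hy W h hh)
  have hx : x.Compatible := by
    intro W₁ W₂ W g₁ g₂ h₁ h₂ hh₁ hh₂ hc
    have e₁ : (g₁ ≫ y W₁ h₁ hh₁) ≫ D.ℓ _ = (g₁ ≫ h₁) ≫ p := by
      rw [Category.assoc, hy, Category.assoc]
    have e₂ : (g₂ ≫ y W₂ h₂ hh₂) ≫ D.ℓ _ = (g₂ ≫ h₂) ≫ p := by
      rw [Category.assoc, hy, Category.assoc]
    show g₁ ≫ x h₁ hh₁ = g₂ ≫ x h₂ hh₂
    rw [← hnat _ _ g₁ h₁ _ _ _ e₁, ← hnat _ _ g₂ h₂ _ _ _ e₂]
    simp only [hc]
    exact hind _ _ _ _ _ _ _ e₂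
  obtain ⟨f, hf, -⟩ := ((GrothendieckTopology.Subcanonical.isSheaf_of_isRepresentable
    (J := QuotSh.J Scheme.fpqcPrecoverage S) (yoneda.obj Z)) _
      ((QuotSh.J Scheme.fpqcPrecoverage S).pullback_stable (p ≫ D.ρ) hR)) x hx
  refine ⟨f, fun W h a y' e => ?_⟩
  have hh : R (h ≫ p ≫ D.ρ) := by
    rw [← Category.assoc, ← e, Category.assoc, (D.cart a).w, ← Category.assoc]
    exact R.downward_closed a.property _
  exact (hf h hh).trans (hind W h _ a _ y' _ e)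

include hR in
/-- Two such schemes are uniquely isomorphic. -/
theorem existsUnique_hom (D' : Dat K) : ∃! f : D.U ⟶ D'.U, ∀ a, D.ℓ a ≫ f = D'.ℓ a := by
  obtain ⟨f, hf⟩ := glue hR (𝟙 D.U) (fun W h a y _ => y ≫ D'.ℓ a)
    (fun W W' g h a y e e' => Category.assoc _ _ _)
    (fun W h a b y y' e e' => by
      obtain ⟨hz, htr⟩ := D.rel y y' (e.trans e'.symm)
      rw [← htr]
      exact (D'.tr_ℓ _ _ hz).symm)
  refine ⟨f, fun a => (hf _ (D.ℓ a) a (𝟙 _) ((Category.id_comp _).trans (Category.comp_id _).symm)).trans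
    (Category.id_comp _), fun g hg => hom_ext hR (𝟙 D.U) g f fun W h a y e => ?_⟩
  rw [hf W h a y e, ← hg a, reassoc_of% e]

include hR in
theorem hom_ρ (D' : Dat K) (f : D.U ⟶ D'.U) (hf : ∀ a, D.ℓ a ≫ f = D'.ℓ a) : f ≫ D'.ρ = D.ρ := by
  refine hom_ext hR (𝟙 D.U) _ _ fun W h a y e => ?_
  rw [Category.comp_id] at e
  rw [← e, Category.assoc, Category.assoc, reassoc_of% (hf a), (D'.cart a).w, (D.cart a).w]

include hR in
theorem isIso_hom (D' : Dat K) (f : D.U ⟶ D'.U) (hf : ∀ a, D.ℓ a ≫ f = D'.ℓ a) : IsIso f := by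
  obtain ⟨g, hg, -⟩ := existsUnique_hom (D := D') hR D
  refine ⟨g, (existsUnique_hom hR D).unique (fun a => ?_) (fun a => Category.comp_id _),
    (existsUnique_hom (D := D') hR D').unique (fun a => ?_) (fun a => Category.comp_id _)⟩
  · rw [reassoc_of% (hf a), hg]
  · rw [reassoc_of% (hg a), hf]

end Dat

end BGFpqcLib
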